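import Mathlib

/-!
# Twisted group algebras of lattices and the generic tensor products of symbol algebras
-/

noncomputable section

set_option linter.style.haveILetI false
set_option maxHeartbeats 1000000

universe u

open TensorProduct Module

namespace Groth.Agent.ASBunLib.QTorus

variable {C : Type u} [Field C] {r : ℕ} (n : Fin r → ℕ) (ζ : Fin r → Cˣ)

/-- The exponent lattice. -/
abbrev Lat (r : ℕ) : Type := (Fin r → ℤ) × (Fin r → ℤ)

/-- The commutation factor. -/
def chi (v w : Lat r) : Cˣ := ∏ j, ζ j ^ (v.2 j * w.1 j)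

theorem chi_add_left (u v w : Lat r) : chi ζ (u + v) w = chi ζ u w * chi ζ v w := by
  simp only [chi, ← Finset.prod_mul_distrib, ← zpow_add]
  exact Finset.prod_congr rfl fun j _ => by rw [Prod.snd_add, Pi.add_apply, add_mul]

theorem chi_add_right (u v w : Lat r) : chi ζ u (v + w) = chi ζ u v * chi ζ u w := by
  simp only [chi, ← Finset.prod_mul_distrib, ← zpow_add]
  exact Finset.prod_congr rfl fun j _ => by rw [Prod.fst_add, Pi.add_apply, mul_add]

theorem chi_zero_left (w : Lat r) : chi ζ 0 w = 1 := by simp [chi]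
theorem chi_zero_right (w : Lat r) : chi ζ w 0 = 1 := by simp [chi]

/-- Scaling by the orders. -/
def scale : Lat r →+ Lat r where
  toFun w := (fun j => (n j : ℤ) * w.1 j, fun j => (n j : ℤ) * w.2 j)
  map_zero' := by ext <;> simp
  map_add' v w := by ext <;> simp [mul_add]

/-- The operator of a lattice point. -/
def M (v : Lat r) : Module.End C (Lat r →₀ C) :=
  (Finsupp.basisSingleOne (R := C) (ι := Lat r)).constr C fun w => Finsupp.single (v + w) ((chi ζ v w : Cˣ) : C)

theorem M_single (v w : Lat r) : M ζ v (Finsupp.single w 1) = Finsupp.single (v + w) ((chi ζ v w : Cˣ) : C) := by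
  have h := (Finsupp.basisSingleOne (R := C) (ι := Lat r)).constr_basis C
    (fun w => Finsupp.single (v + w) ((chi ζ v w : Cˣ) : C)) w
  simpa [M] using h

theorem M_mul (v v' : Lat r) : M ζ v * M ζ v' = ((chi ζ v v' : Cˣ) : C) • M ζ (v + v') := by
  refine (Finsupp.basisSingleOne (R := C) (ι := Lat r)).ext fun w => ?_
  simp only [Finsupp.coe_basisSingleOne, LinearMap.smul_apply, Module.End.mul_apply]
  rw [M_single, M_single, ← mul_one ((chi ζ v' w : Cˣ) : C), ← Finsupp.smul_single', map_smul, M_single,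
    Finsupp.smul_single, Finsupp.smul_single, add_assoc, chi_add_left, chi_add_right]
  congr 1
  simp only [Units.val_mul, smul_eq_mul]
  ring

theorem M_zero : M ζ (0 : Lat r) = 1 := by
  refine (Finsupp.basisSingleOne (R := C) (ι := Lat r)).ext fun w => ?_
  simp only [Finsupp.coe_basisSingleOne]
  rw [M_single, zero_add, chi_zero_left, Units.val_one]
  rfl

/-- The twisted group algebra. -/
def Tw : Subalgebra C (Module.End C (Lat r →₀ C)) :=
  (Submodule.span C (Set.range (M ζ))).toSubalgebra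
    (Submodule.subset_span ⟨0, M_zero ζ⟩) (fun x y hx hy => by
      have h := Submodule.mul_mem_mul hx hy
      rw [Submodule.span_mul_span] at h
      refine Submodule.span_le.2 ?_ h
      rintro _ ⟨_, ⟨v, rfl⟩, _, ⟨v', rfl⟩, rfl⟩
      show M ζ v * M ζ v' ∈ _
      rw [M_mul]
      exact Submodule.smul_mem _ _ (Submodule.subset_span ⟨_, rfl⟩))

/-- The monomials of the twisted group algebra. -/
def mon (v : Lat r) : Tw ζ := ⟨M ζ v, Submodule.subset_span ⟨v, rfl⟩⟩

theorem mon_mul (v w : Lat r) : mon ζ v * mon ζ w = ((chi ζ v w : Cˣ) : C) • mon ζ (v + w) :=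
  Subtype.ext (M_mul ζ v w)

theorem mon_zero : mon ζ (0 : Lat r) = 1 := Subtype.ext (M_zero ζ)

theorem span_mon : Submodule.span C (Set.range (mon ζ)) = ⊤ := by
  refine Submodule.map_injective_of_injective (f := (Tw ζ).val.toLinearMap) Subtype.val_injective ?_
  rw [Submodule.map_span, ← Set.range_comp, Submodule.map_top]
  ext x
  exact ⟨fun hx => ⟨⟨x, hx⟩, rfl⟩, fun ⟨y, hy⟩ => hy ▸ y.2⟩

theorem linearIndependent_mon : LinearIndependent C (mon ζ) := by
  refine LinearIndependent.of_comp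
    ((LinearMap.applyₗ (Finsupp.single (0 : Lat r) (1 : C))).comp (Tw ζ).val.toLinearMap) ?_
  have h : ((LinearMap.applyₗ (Finsupp.single (0 : Lat r) (1 : C))).comp (Tw ζ).val.toLinearMap) ∘ mon ζ =
      (Finsupp.basisSingleOne (R := C) (ι := Lat r)) := funext fun v => by
    show M ζ v (Finsupp.single (0 : Lat r) 1) = _
    rw [M_single, add_zero, chi_zero_right, Units.val_one]
    simp
  rw [h]
  exact Module.Basis.linearIndependent _

/-- The monomial basis. -/
def monBasis : Basis (Lat r) C (Tw ζ) := Basis.mk (linearIndependent_mon ζ) (span_mon ζ).ge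

@[simp] theorem monBasis_apply (v : Lat r) : monBasis ζ v = mon ζ v := by simp [monBasis]

theorem exists_coeff_mul (x y : Tw ζ) (hx : x ≠ 0) (hy : y ≠ 0) :
    ∃ v, (monBasis ζ).repr (x * y) v ≠ 0 := by
  classical
  let B := monBasis ζ
  have hsx : (B.repr x).support.Nonempty := Finsupp.support_nonempty_iff.2 (by simpa using hx)
  have hsy : (B.repr y).support.Nonempty := Finsupp.support_nonempty_iff.2 (by simpa using hy)
  obtain ⟨a, ha, b, hb, hab⟩ := UniqueSums.uniqueAdd_of_nonempty hsx hsy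
  refine ⟨a + b, ?_⟩
  conv => lhs; rw [← B.linearCombination_repr x, ← B.linearCombination_repr y]
  simp only [Finsupp.linearCombination_apply, Finsupp.sum, Finset.sum_mul, Finset.mul_sum, map_sum,
    Finsupp.finsetSum_apply, B, monBasis_apply, smul_mul_smul_comm, mon_mul, smul_smul, map_smul,
    Finsupp.smul_apply, smul_eq_mul]
  simp only [← monBasis_apply, Basis.repr_self, Finsupp.single_apply]
  rw [Finset.sum_comm, Finset.sum_eq_single a, Finset.sum_eq_single b]
  · rw [if_pos rfl, mul_one]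
    exact mul_ne_zero (mul_ne_zero (Finsupp.mem_support_iff.1 ha) (Finsupp.mem_support_iff.1 hb)) (Units.ne_zero _)
  · intro b' hb' hne
    rw [if_neg fun h => hne (add_left_cancel h), mul_zero]
  · exact fun h => absurd hb h
  · intro a' ha' hne
    refine Finset.sum_eq_zero fun b' hb' => ?_
    rw [if_neg fun h => hne (hab ha' hb' h).1, mul_zero]
  · exact fun h => absurd ha h

instance noZeroDivisors : NoZeroDivisors (Tw ζ) where
  eq_zero_or_eq_zero_of_mul_eq_zero {x y} h := by
    by_contra hc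
    obtain ⟨v, hv⟩ := exists_coeff_mul ζ x y (fun e => hc (Or.inl e)) (fun e => hc (Or.inr e))
    rw [h] at hv
    simp at hv

instance nontrivial : Nontrivial (Tw ζ) :=
  ⟨⟨0, 1, fun h => by
    have := (linearIndependent_mon ζ).ne_zero 0
    exact this ((mon_zero ζ).trans h.symm)⟩⟩

/-- The centre. -/
abbrev Z (C : Type u) [Field C] (r : ℕ) : Type u := AddMonoidAlgebra C (Lat r)

/-- The centre mapping to the twisted algebra. -/
def phiHom (hζ : ∀ j, ((ζ j : Cˣ)) ^ (n j) = 1) : Multiplicative (Lat r) →* Tw ζ where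
  toFun w := mon ζ (scale n w.toAdd)
  map_one' := by rw [toAdd_one, map_zero, mon_zero]
  map_mul' v w := by
    rw [toAdd_mul, map_add, mon_mul]
    have h : chi ζ (scale n v.toAdd) (scale n w.toAdd) = 1 := Finset.prod_eq_one fun j _ => by
      show ζ j ^ ((n j : ℤ) * v.toAdd.2 j * ((n j : ℤ) * w.toAdd.1 j)) = 1
      rw [mul_assoc, zpow_mul, zpow_natCast, hζ, one_zpow]
    rw [h, Units.val_one, one_smul]

theorem chi_scale_left (hζ : ∀ j, ((ζ j : Cˣ)) ^ (n j) = 1) (v w : Lat r) : chi ζ (scale n v) w = 1 :=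
  Finset.prod_eq_one fun j _ => by
    show ζ j ^ ((n j : ℤ) * v.2 j * w.1 j) = 1
    rw [mul_assoc, zpow_mul, zpow_natCast, hζ, one_zpow]

theorem chi_scale_right (hζ : ∀ j, ((ζ j : Cˣ)) ^ (n j) = 1) (v w : Lat r) : chi ζ v (scale n w) = 1 :=
  Finset.prod_eq_one fun j _ => by
    show ζ j ^ (v.2 j * ((n j : ℤ) * w.1 j)) = 1
    rw [mul_left_comm, zpow_mul, zpow_natCast, hζ, one_zpow]

/-- The map from the centre. -/
def phi (hζ : ∀ j, ((ζ j : Cˣ)) ^ (n j) = 1) : Z C r →ₐ[C] Tw ζ :=
  AddMonoidAlgebra.lift C (Tw ζ) (Lat r) (phiHom n ζ hζ)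

theorem phi_single (hζ : ∀ j, ((ζ j : Cˣ)) ^ (n j) = 1) (w : Lat r) (c : C) :
    phi n ζ hζ (AddMonoidAlgebra.single w c) = c • mon ζ (scale n w) :=
  AddMonoidAlgebra.lift_single _ _ _

theorem phi_comm (hζ : ∀ j, ((ζ j : Cˣ)) ^ (n j) = 1) (z : Z C r) (x : Tw ζ) :
    phi n ζ hζ z * x = x * phi n ζ hζ z := by
  induction z using AddMonoidAlgebra.induction_linear with
  | zero => simp
  | add a b ha hb => rw [map_add, add_mul, mul_add, ha, hb]
  | single w c =>
    have hx : x ∈ Submodule.span C (Set.range (mon ζ)) := by rw [span_mon]; trivial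
    rw [phi_single]
    induction hx using Submodule.span_induction with
    | mem y hy =>
      obtain ⟨v, rfl⟩ := hy
      rw [smul_mul_assoc, mul_smul_comm, mon_mul, mon_mul, chi_scale_left n ζ hζ, chi_scale_right n ζ hζ, add_comm]
    | zero => simp
    | add a b _ _ ha hb => rw [mul_add, add_mul, ha, hb]
    | smul a y _ hy => rw [mul_smul_comm, smul_mul_assoc _ y, hy]

variable [∀ j, NeZero (n j)]

/-- The residue box. -/
abbrev Box : Type := ((j : Fin r) → Fin (n j)) × ((j : Fin r) → Fin (n j))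

/-- The lattice point of a residue. -/
def boxPt (e : Box n) : Lat r := (fun j => ((e.1 j : ℕ) : ℤ), fun j => ((e.2 j : ℕ) : ℤ))

theorem boxPt_bijective : Function.Bijective fun p : Box n × Lat r => boxPt n p.1 + scale n p.2 := by
  have hn : ∀ j, (n j : ℤ) ≠ 0 := fun j => by exact_mod_cast NeZero.ne (n j)
  constructor
  · rintro ⟨⟨e, f⟩, a, b⟩ ⟨⟨e', f'⟩, a', b'⟩ h
    have key : ∀ j (x x' : Fin (n j)) (y y' : ℤ), ((x : ℕ) : ℤ) + n j * y = ((x' : ℕ) : ℤ) + n j * y' →
        x = x' ∧ y = y' := by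
      intro j x x' y y' hh
      have h1 := congrArg (· % (n j : ℤ)) hh
      simp only [Int.add_mul_emod_self_left, Int.emod_eq_of_lt (Int.natCast_nonneg _) (Int.ofNat_lt.2 x.2),
        Int.emod_eq_of_lt (Int.natCast_nonneg _) (Int.ofNat_lt.2 x'.2)] at h1
      refine ⟨Fin.ext (by exact_mod_cast h1), ?_⟩
      rw [h1] at hh
      exact mul_left_cancel₀ (hn j) (add_left_cancel hh)
    have h1 : ∀ j, ((e j : ℕ) : ℤ) + n j * a j = ((e' j : ℕ) : ℤ) + n j * a' j := fun j => congrFun (congrArg Prod.fst h) j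
    have h2 : ∀ j, ((f j : ℕ) : ℤ) + n j * b j = ((f' j : ℕ) : ℤ) + n j * b' j := fun j => congrFun (congrArg Prod.snd h) j
    simp only [Prod.mk.injEq, funext_iff]
    exact ⟨⟨fun j => (key j _ _ _ _ (h1 j)).1, fun j => (key j _ _ _ _ (h2 j)).1⟩,
      fun j => (key j _ _ _ _ (h1 j)).2, fun j => (key j _ _ _ _ (h2 j)).2⟩
  · rintro ⟨a, b⟩
    refine ⟨((fun j => ⟨(a j % n j).toNat, ?_⟩, fun j => ⟨(b j % n j).toNat, ?_⟩),
      (fun j => a j / n j, fun j => b j / n j)), ?_⟩
    · have := Int.emod_lt_of_pos (a j) (lt_of_le_of_ne (Int.natCast_nonneg _) (hn j).symm)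
      have := Int.emod_nonneg (a j) (hn j)
      omega
    · have := Int.emod_lt_of_pos (b j) (lt_of_le_of_ne (Int.natCast_nonneg _) (hn j).symm)
      have := Int.emod_nonneg (b j) (hn j)
      omega
    · ext j
      · show (((a j % n j).toNat : ℕ) : ℤ) + n j * (a j / n j) = a j
        rw [Int.toNat_of_nonneg (Int.emod_nonneg _ (hn j)), Int.emod_add_mul_ediv]
      · show (((b j % n j).toNat : ℕ) : ℤ) + n j * (b j / n j) = b j
        rw [Int.toNat_of_nonneg (Int.emod_nonneg _ (hn j)), Int.emod_add_mul_ediv]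

/-- The twisted algebra is free over the centre on the residue box. -/
theorem exists_basis (hζ : ∀ j, ((ζ j : Cˣ)) ^ (n j) = 1) :
    letI := (phi n ζ hζ).toRingHom.toAlgebra' (phi_comm n ζ hζ)
    ∃ B : Basis (Box n) (Z C r) (Tw ζ), ∀ e, B e = mon ζ (boxPt n e) := by
  letI := (phi n ζ hζ).toRingHom.toAlgebra' (phi_comm n ζ hζ)
  haveI : IsScalarTower C (Z C r) (Tw ζ) := IsScalarTower.of_algebraMap_eq' ((phi n ζ hζ).comp_algebraMap).symm
  let bZ : Basis (Lat r) C (Z C r) := AddMonoidAlgebra.basis (Lat r) C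
  let L : (Box n →₀ Z C r) →ₗ[C] Tw ζ :=
    (Finsupp.linearCombination (Z C r) fun e => mon ζ (boxPt n e)).restrictScalars C
  let bF : Basis (Σ _ : Box n, Lat r) C (Box n →₀ Z C r) := Finsupp.basis fun _ => bZ
  let eq : (Σ _ : Box n, Lat r) ≃ Lat r := (Equiv.sigmaEquivProd _ _).trans (Equiv.ofBijective _ (boxPt_bijective n))
  have hphi : ∀ v w, chi ζ (scale n v) w = 1 := chi_scale_left n ζ hζ
  have hL : L = (bF.equiv (monBasis ζ) eq).toLinearMap := bF.ext fun p => by
    obtain ⟨e, w⟩ := p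
    rw [LinearEquiv.coe_coe, Basis.equiv_apply, monBasis_apply]
    simp only [bF, Finsupp.coe_basis, bZ, AddMonoidAlgebra.basis_apply, L, LinearMap.restrictScalars_apply,
      Finsupp.linearCombination_single]
    show phi n ζ hζ (AddMonoidAlgebra.single w 1) * mon ζ (boxPt n e) = mon ζ (boxPt n e + scale n w)
    rw [phi_single, one_smul, mon_mul, hphi, Units.val_one, one_smul, add_comm]
  have hbij : Function.Bijective (Finsupp.linearCombination (Z C r) fun e => mon ζ (boxPt n e)) := by
    show Function.Bijective L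
    rw [hL]
    exact (bF.equiv (monBasis ζ) eq).bijective
  exact ⟨Basis.ofRepr (LinearEquiv.ofBijective _ hbij).symm, fun e => by simp [Basis.coe_ofRepr]⟩

end Groth.Agent.ASBunLib.QTorus
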