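import Groth.Agent.ASBunLib.QTorus.Basic

/-!
# The generic tensor product of symbol algebras is a central division algebra
-/

noncomputable section

set_option linter.style.haveILetI false
set_option linter.unusedSectionVars false
set_option maxHeartbeats 1000000
set_option backward.isDefEq.respectTransparency false
set_option backward.isDefEq.respectTransparency.types false

universe u

open TensorProduct Module

namespace Groth.Agent.ASBunLib.QTorus

/-- Primitive roots of unity of the given orders. -/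
class Roots {C : Type u} [Field C] {r : ℕ} (n : Fin r → ℕ) (ζ : Fin r → Cˣ) : Prop where
  prim : ∀ j, IsPrimitiveRoot (ζ j) (n j)

variable {C : Type u} [Field C] {r : ℕ} (n : Fin r → ℕ) [∀ j, NeZero (n j)] (ζ : Fin r → Cˣ) [Roots n ζ]

theorem Roots.pow : ∀ j, ζ j ^ n j = 1 := fun j => (Roots.prim (n := n) j).pow_eq_one

/-- The twisted algebra over its centre. -/
@[nolint unusedArguments]
def TwN (_n : Fin r → ℕ) (ζ : Fin r → Cˣ) : Type u := Tw ζ

instance : Ring (TwN n ζ) := show Ring (Tw ζ) from Algebra.semiringToRing C (A := Tw ζ)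
instance : NoZeroDivisors (TwN n ζ) := inferInstanceAs (NoZeroDivisors (Tw ζ))
instance : Nontrivial (TwN n ζ) := inferInstanceAs (Nontrivial (Tw ζ))
instance : Algebra (Z C r) (TwN n ζ) :=
  (phi n ζ (Roots.pow n ζ)).toRingHom.toAlgebra' (phi_comm n ζ (Roots.pow n ζ))

/-- The monomials. -/
def mn (v : Lat r) : TwN n ζ := mon ζ v

theorem mn_mul (v w : Lat r) :
    mn n ζ v * mn n ζ w = AddMonoidAlgebra.single (0 : Lat r) ((chi ζ v w : Cˣ) : C) • mn n ζ (v + w) := by
  rw [Algebra.smul_def]
  show mon ζ v * mon ζ w = phi n ζ (Roots.pow n ζ) (AddMonoidAlgebra.single 0 _) * mon ζ (v + w)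
  rw [phi_single, map_zero, mon_zero, smul_mul_assoc, one_mul, mon_mul]

theorem mn_zero : mn n ζ (0 : Lat r) = 1 := mon_zero ζ

theorem mn_scale (w : Lat r) : mn n ζ (scale n w) = algebraMap (Z C r) (TwN n ζ) (AddMonoidAlgebra.single w 1) := by
  show mon ζ (scale n w) = phi n ζ (Roots.pow n ζ) (AddMonoidAlgebra.single w 1)
  rw [phi_single, one_smul]

/-- The residue basis. -/
def bTw : Basis (Box n) (Z C r) (TwN n ζ) := (exists_basis n ζ (Roots.pow n ζ)).choose

theorem bTw_apply (e : Box n) : bTw n ζ e = mn n ζ (boxPt n e) := (exists_basis n ζ (Roots.pow n ζ)).choose_spec e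

/-- The field of parameters. -/
def Par (C : Type u) [Field C] (r : ℕ) : Type u := FractionRing (Z C r)

instance instFieldPar (C : Type u) [Field C] (r : ℕ) : Field (Par C r) :=
  inferInstanceAs (Field (FractionRing (Z C r)))

instance instAlgebraPar (C : Type u) [Field C] (r : ℕ) : Algebra (Z C r) (Par C r) :=
  inferInstanceAs (Algebra (Z C r) (FractionRing (Z C r)))

instance instIsFractionRingPar (C : Type u) [Field C] (r : ℕ) : IsFractionRing (Z C r) (Par C r) :=
  inferInstanceAs (IsFractionRing (Z C r) (FractionRing (Z C r)))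

/-- The generic tensor product of symbol algebras. -/
def Sym : Type u := Par C r ⊗[Z C r] TwN n ζ

instance instRingSym : Ring (Sym n ζ) := inferInstanceAs (Ring (Par C r ⊗[Z C r] TwN n ζ))

instance instAlgSym : Algebra (Par C r) (Sym n ζ) :=
  inferInstanceAs (Algebra (Par C r) (Par C r ⊗[Z C r] TwN n ζ))

instance instAlgZSym : Algebra (Z C r) (Sym n ζ) :=
  inferInstanceAs (Algebra (Z C r) (Par C r ⊗[Z C r] TwN n ζ))

instance instTowerSym : IsScalarTower (Z C r) (Par C r) (Sym n ζ) :=
  inferInstanceAs (IsScalarTower (Z C r) (Par C r) (Par C r ⊗[Z C r] TwN n ζ))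

/-- The basis of monomials. -/
def bSym : Basis (Box n) (Par C r) (Sym n ζ) := (bTw n ζ).baseChange (Par C r)

/-- The inclusion. -/
def ι : TwN n ζ →ₐ[Z C r] Sym n ζ := Algebra.TensorProduct.includeRight

theorem bSym_apply (e : Box n) : bSym n ζ e = ι n ζ (mn n ζ (boxPt n e)) :=
  (Basis.baseChange_apply (Par C r) (bTw n ζ) e).trans (congrArg ((1 : Par C r) ⊗ₜ[Z C r] ·) (bTw_apply n ζ e))

theorem bSym_repr_ι (x : TwN n ζ) (e : Box n) :
    (bSym n ζ).repr (ι n ζ x) e = algebraMap (Z C r) (Par C r) ((bTw n ζ).repr x e) :=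
  (Basis.baseChange_repr_tmul (Par C r) (bTw n ζ) 1 x e).trans (by rw [Algebra.smul_def, mul_one])

theorem ι_injective : Function.Injective (ι n ζ) := fun x y h => (bTw n ζ).ext_elem fun e =>
  IsFractionRing.injective (Z C r) (Par C r) (by rw [← bSym_repr_ι, ← bSym_repr_ι, h])

instance : Module.Finite (Par C r) (Sym n ζ) := Module.Finite.of_basis (bSym n ζ)

theorem finrank_sym : Module.finrank (Par C r) (Sym n ζ) = (∏ j, n j) * ∏ j, n j := by
  rw [Module.finrank_eq_card_basis (bSym n ζ), Fintype.card_prod, Fintype.card_pi]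
  simp

theorem exists_frac (x : Sym n ζ) : ∃ (z : Z C r) (y : TwN n ζ), z ≠ 0 ∧ z • x = ι n ζ y := by
  classical
  obtain ⟨⟨z, hz⟩, hb⟩ := IsLocalization.exist_integer_multiples_of_finite (nonZeroDivisors (Z C r))
    (fun e : Box n => (bSym n ζ).repr x e)
  choose c hc using hb
  refine ⟨z, ∑ e, c e • bTw n ζ e, nonZeroDivisors.ne_zero hz, ?_⟩
  conv_lhs => rw [← (bSym n ζ).sum_repr x]
  rw [Finset.smul_sum, map_sum]
  refine Finset.sum_congr rfl fun e _ => ?_
  rw [map_smul, bTw_apply, ← bSym_apply, ← smul_assoc]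
  exact ((algebraMap_smul (Par C r) (c e) _).symm.trans (by rw [hc e])).symm

theorem smul_eq_zero_sym {z : Z C r} (hz : z ≠ 0) {x : Sym n ζ} (h : z • x = 0) : x = 0 := by
  rw [← algebraMap_smul (Par C r) z, smul_eq_zero] at h
  exact h.resolve_left ((map_ne_zero_iff _ (IsFractionRing.injective (Z C r) (Par C r))).2 hz)

instance : Nontrivial (Sym n ζ) := (ι_injective n ζ).nontrivial

instance : NoZeroDivisors (Sym n ζ) where
  eq_zero_or_eq_zero_of_mul_eq_zero {x y} h := by
    obtain ⟨z, a, hz, ha⟩ := exists_frac n ζ x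
    obtain ⟨w, b, hw, hb⟩ := exists_frac n ζ y
    have h1 : ι n ζ (a * b) = 0 := by rw [map_mul, ← ha, ← hb, smul_mul_smul_comm, h, smul_zero]
    rw [← map_zero (ι n ζ)] at h1
    rcases eq_zero_or_eq_zero_of_mul_eq_zero (ι_injective n ζ h1) with h2 | h2
    · exact Or.inl (smul_eq_zero_sym n ζ hz (by rw [ha, h2, map_zero]))
    · exact Or.inr (smul_eq_zero_sym n ζ hw (by rw [hb, h2, map_zero]))

instance : IsDomain (Sym n ζ) := NoZeroDivisors.to_isDomain _

/-- The division ring structure. -/
@[reducible] def divSym : DivisionRing (Sym n ζ) := divisionRingOfFiniteDimensional (Par C r) (Sym n ζ)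

instance : IsSimpleRing (Sym n ζ) := by
  letI := divSym n ζ
  infer_instance

/-- A coefficient functional. -/
def cf (w : Lat r) : Tw ζ →ₗ[C] C := (Finsupp.lapply w).comp (monBasis ζ).repr.toLinearMap

theorem coeff_mul_mon (x : Tw ζ) (g v : Lat r) :
    cf ζ (v + g) (x * mon ζ g) = cf ζ v x * ((chi ζ v g : Cˣ) : C) := by
  have h : (cf ζ (v + g)).comp (LinearMap.mulRight C (mon ζ g)) = ((chi ζ v g : Cˣ) : C) • cf ζ v := by
    refine (monBasis ζ).ext fun w => ?_
    simp only [monBasis_apply, LinearMap.comp_apply, LinearMap.mulRight_apply, LinearMap.smul_apply, mon_mul, map_smul]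
    simp only [cf, LinearMap.comp_apply, LinearEquiv.coe_coe, ← monBasis_apply, Basis.repr_self, Finsupp.lapply_apply,
      Finsupp.single_apply, smul_eq_mul]
    by_cases hw : w = v
    · subst hw; simp
    · simp [hw]
  rw [mul_comm _ ((chi ζ v g : Cˣ) : C)]
  exact congrArg (fun L : Tw ζ →ₗ[C] C => L x) h

theorem coeff_mon_mul (x : Tw ζ) (g v : Lat r) :
    cf ζ (v + g) (mon ζ g * x) = cf ζ v x * ((chi ζ g v : Cˣ) : C) := by
  have h : (cf ζ (v + g)).comp (LinearMap.mulLeft C (mon ζ g)) = ((chi ζ g v : Cˣ) : C) • cf ζ v := by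
    refine (monBasis ζ).ext fun w => ?_
    simp only [monBasis_apply, LinearMap.comp_apply, LinearMap.mulLeft_apply, LinearMap.smul_apply, mon_mul, map_smul]
    simp only [cf, LinearMap.comp_apply, LinearEquiv.coe_coe, ← monBasis_apply, Basis.repr_self, Finsupp.lapply_apply,
      Finsupp.single_apply, smul_eq_mul]
    by_cases hw : w = v
    · subst hw; simp [add_comm]
    · simp [hw, add_comm g w]
  rw [mul_comm _ ((chi ζ g v : Cˣ) : C)]
  exact congrArg (fun L : Tw ζ →ₗ[C] C => L x) h

theorem mem_range_scale {v : Lat r} (h : ∀ g, chi ζ v g = chi ζ g v) : ∃ w, scale n w = v := by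
  classical
  have hp := Roots.prim (n := n) (ζ := ζ)
  have h1 : ∀ j, (n j : ℤ) ∣ v.2 j := fun j => by
    rw [← (hp j).zpow_eq_one_iff_dvd]
    have h0 := h (Pi.single j 1, 0)
    simp only [chi, Pi.zero_apply, zero_mul, zpow_zero, Finset.prod_const_one] at h0
    rwa [Finset.prod_eq_single j (fun i _ hi => by simp [hi]) (by simp), Pi.single_eq_same, mul_one] at h0
  have h2 : ∀ j, (n j : ℤ) ∣ v.1 j := fun j => by
    rw [← (hp j).zpow_eq_one_iff_dvd]
    have h0 := h (0, Pi.single j 1)
    simp only [chi, Pi.zero_apply, mul_zero, zpow_zero, Finset.prod_const_one] at h0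
    rw [Finset.prod_eq_single j (fun i _ hi => by simp [hi]) (by simp), Pi.single_eq_same, one_mul] at h0
    exact h0.symm
  choose a ha using h2
  choose b hb using h1
  exact ⟨(a, b), Prod.ext (funext fun j => (ha j).symm) (funext fun j => (hb j).symm)⟩

theorem mem_range_of_comm (x : TwN n ζ) (h : ∀ g, x * mn n ζ g = mn n ζ g * x) :
    ∃ z : Z C r, algebraMap (Z C r) (TwN n ζ) z = x := by
  classical
  let y : Tw ζ := x
  have hy : y ∈ (phi n ζ (Roots.pow n ζ)).range := by
    rw [← (monBasis ζ).linearCombination_repr y, Finsupp.linearCombination_apply]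
    refine Subalgebra.sum_mem _ fun v hv => ?_
    refine Subalgebra.smul_mem _ ?_ _
    rw [monBasis_apply]
    obtain ⟨w, hw⟩ := mem_range_scale n ζ (v := v) fun g => by
      have hne : cf ζ v y ≠ 0 := Finsupp.mem_support_iff.1 hv
      have hc := coeff_mul_mon ζ y g v
      rw [show y * mon ζ g = mon ζ g * y from h g, coeff_mon_mul] at hc
      exact (Units.ext (mul_left_cancel₀ hne hc)).symm
    exact ⟨AddMonoidAlgebra.single w 1, by rw [← hw]; exact (phi_single n ζ _ w 1).trans (one_smul _ _)⟩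
  obtain ⟨z, hz⟩ := hy
  exact ⟨z, hz⟩

instance : Algebra.IsCentral (Par C r) (Sym n ζ) where
  out := fun x hx => by
    obtain ⟨z, y, hz, hy⟩ := exists_frac n ζ x
    obtain ⟨c, hc⟩ := mem_range_of_comm n ζ y fun g => ι_injective n ζ (by
      rw [map_mul, map_mul, ← hy, smul_mul_assoc, mul_smul_comm]
      exact congrArg (z • ·) (Subalgebra.mem_center_iff.1 hx (ι n ζ (mn n ζ g))).symm)
    rw [Algebra.mem_bot]
    refine ⟨algebraMap (Z C r) (Par C r) c / algebraMap (Z C r) (Par C r) z, ?_⟩
    have hz' : algebraMap (Z C r) (Par C r) z ≠ 0 := (map_ne_zero_iff _ (IsFractionRing.injective (Z C r) (Par C r))).2 hz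
    have hcy : algebraMap (Par C r) (Sym n ζ) (algebraMap (Z C r) (Par C r) c) = ι n ζ y := by
      rw [← IsScalarTower.algebraMap_apply, ← hc, AlgHom.commutes]
    rw [div_eq_inv_mul, map_mul, hcy, ← hy, ← algebraMap_smul (Par C r) z, ← Algebra.smul_def, smul_smul,
      inv_mul_cancel₀ hz', one_smul]

end Groth.Agent.ASBunLib.QTorus
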