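import Groth.Agent.ASBunLib.QTorus.Monomial
import Groth.Agent.CSALib.BrauerRel
import Mathlib.LinearAlgebra.Trace

/-!
# The averaging idempotent of a commutative group of monomials in a tensor power
-/

noncomputable section

set_option linter.style.haveILetI false
set_option linter.unusedSectionVars false
set_option maxHeartbeats 1000000
set_option backward.isDefEq.respectTransparency false
set_option backward.isDefEq.respectTransparency.types false

universe u

open TensorProduct Module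

namespace Groth.Agent.ASBunLib.QTorus

theorem prod_zpow_eq {α G : Type*} [CommGroup G] (s : Finset α) (x : G) (f : α → ℤ) :
    ∏ l ∈ s, x ^ f l = x ^ (∑ l ∈ s, f l) := by
  classical
  induction s using Finset.induction with
  | empty => simp
  | insert a s ha ih => rw [Finset.prod_insert ha, Finset.sum_insert ha, zpow_add, ih]

variable {C : Type u} [Field C] {r : ℕ} (n : Fin r → ℕ) [∀ j, NeZero (n j)] (ζ : Fin r → Cˣ) [Roots n ζ]

theorem prod_chi {m : ℕ} (v w : Fin m → Lat r) :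
    ∏ l, chi ζ (v l) (w l) = ∏ j, ζ j ^ (∑ l, (v l).2 j * (w l).1 j) := by
  simp only [chi]
  rw [Finset.prod_comm]
  exact Finset.prod_congr rfl fun j _ => prod_zpow_eq _ _ _

theorem prod_chi_eq_one {m : ℕ} (v w : Fin m → Lat r) (h : ∀ j, (n j : ℤ) ∣ ∑ l, (v l).2 j * (w l).1 j) :
    ∏ l, chi ζ (v l) (w l) = 1 := by
  rw [prod_chi]
  exact Finset.prod_eq_one fun j _ => ((Roots.prim (n := n) (ζ := ζ) j).zpow_eq_one_iff_dvd _).2 (h j)

variable (q : ℕ)

/-- The common divisors with the exponent. -/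
def gj (j : Fin r) : ℕ := Nat.gcd (n j) (q + 1)

/-- The reduced orders. -/
def n' (j : Fin r) : ℕ := n j / gj n q j

/-- The reduced exponent. -/
def cj (j : Fin r) : ℕ := (q + 1) / gj n q j

instance (j : Fin r) : NeZero (gj n q j) := ⟨(Nat.gcd_pos_of_pos_right _ (Nat.succ_pos q)).ne'⟩

theorem gj_mul_n' (j : Fin r) : gj n q j * n' n q j = n j := Nat.mul_div_cancel' (Nat.gcd_dvd_left _ _)

theorem gj_mul_cj (j : Fin r) : gj n q j * cj n q j = q + 1 := Nat.mul_div_cancel' (Nat.gcd_dvd_right _ _)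

instance (j : Fin r) : NeZero (n' n q j) :=
  ⟨fun h => NeZero.ne (n j) (by rw [← gj_mul_n' n q j, h, mul_zero])⟩

theorem coprime_cj (j : Fin r) : Nat.Coprime (cj n q j) (n' n q j) :=
  (Nat.coprime_div_gcd_div_gcd (Nat.gcd_pos_of_pos_right _ (Nat.succ_pos q))).symm

/-- The parameters of the group of monomials. -/
abbrev Pre (r q : ℕ) : Type := (Fin q → Fin r → ℤ) × (Fin r → ℤ)

/-- The group of monomials. -/
abbrev Grp : Type := (Fin q → ∀ j, ZMod (n j)) × (∀ j, ZMod (gj n q j))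

/-- Reduction of parameters. -/
def red : Pre r q →+ Grp n q where
  toFun X := (fun l j => (X.1 l j : ZMod (n j)), fun j => (X.2 j : ZMod (gj n q j)))
  map_zero' := by ext <;> simp
  map_add' X Y := by ext <;> simp

/-- Lifting of parameters. -/
def liftG (x : Grp n q) : Pre r q := (fun l j => ((x.1 l j).val : ℤ), fun j => ((x.2 j).val : ℤ))

theorem red_liftG (x : Grp n q) : red n q (liftG n q x) = x := by
  ext <;> simp [red, liftG]

/-- The lattice points of the group of monomials. -/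
def vH : Pre r q →+ (Fin (q + 1) → Lat r) where
  toFun X l := (Fin.cons (α := fun _ => Fin r → ℤ) (-∑ i, X.1 i) X.1 l, fun j => (n' n q j : ℤ) * X.2 j)
  map_zero' := by
    funext l
    refine Fin.cases ?_ (fun i => ?_) l <;> ext j <;> simp
  map_add' X Y := by
    funext l
    refine Fin.cases ?_ (fun i => ?_) l <;> ext j <;> simp [mul_add, Finset.sum_add_distrib, add_comm]

theorem sum_vH_fst (X : Pre r q) : ∑ l, (vH n q X l).1 = 0 := by
  rw [Fin.sum_univ_succ]
  simp [vH]

theorem sum_mul_vH_fst (X : Pre r q) (b : Fin r → ℤ) (j : Fin r) : ∑ l, b j * (vH n q X l).1 j = 0 := by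
  rw [← Finset.mul_sum, ← Finset.sum_apply, sum_vH_fst, Pi.zero_apply, mul_zero]

/-- The normalised monomials. -/
def psi (X : Pre r q) : Pw n ζ (q + 1) :=
  Y (C := C) (0, fun j => -((cj n q j : ℤ) * X.2 j)) • T n ζ (vH n q X)

theorem psi_add (X X' : Pre r q) : psi n ζ q (X + X') = psi n ζ q X * psi n ζ q X' := by
  rw [psi, psi, psi, smul_mul_smul_comm, ← Y_add, T_mul,
    prod_chi_eq_one n ζ _ _ (fun j => by
      show (n j : ℤ) ∣ ∑ l, ((n' n q j : ℤ) * X.2 j) * (vH n q X' l).1 j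
      rw [sum_mul_vH_fst n q X' (fun j => (n' n q j : ℤ) * X.2 j) j]
      exact dvd_zero _), Units.val_one, map_one, one_smul, map_add]
  congr 2
  ext j
  · simp
  · simp [mul_add, add_comm]

theorem psi_zero : psi n ζ q 0 = 1 := by
  rw [psi, map_zero, T_zero]
  have h : ((0, fun j => -((cj n q j : ℤ) * (0 : Pre r q).2 j)) : Lat r) = 0 := by ext j <;> simp
  rw [h, Y_zero, one_smul]

theorem psi_of_red_eq_zero (X : Pre r q) (h : red n q X = 0) : psi n ζ q X = 1 := by
  have h1 : ∀ l j, (n j : ℤ) ∣ X.1 l j := fun l j =>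
    (ZMod.intCast_zmod_eq_zero_iff_dvd _ _).1 (congrFun (congrFun (congrArg Prod.fst h) l) j)
  have h2 : ∀ j, (gj n q j : ℤ) ∣ X.2 j := fun j =>
    (ZMod.intCast_zmod_eq_zero_iff_dvd _ _).1 (congrFun (congrArg Prod.snd h) j)
  choose a ha using h1
  choose b hb using h2
  let w : Fin (q + 1) → Lat r := fun l => (Fin.cons (α := fun _ => Fin r → ℤ) (-∑ i, a i) a l, b)
  have hv : vH n q X = fun l => scale n (w l) := by
    funext l
    refine Prod.ext ?_ (funext fun j => ?_)
    · refine Fin.cases ?_ (fun i => ?_) l <;> funext j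
      · simp [vH, w, scale, ha, Finset.mul_sum]
      · simp [vH, w, scale, ha]
    · show (n' n q j : ℤ) * X.2 j = (n j : ℤ) * b j
      rw [hb, ← gj_mul_n' n q j, Nat.cast_mul]
      ring
  rw [psi, hv, T_scale, smul_smul, ← Y_add]
  have hz : ((0, fun j => -((cj n q j : ℤ) * X.2 j)) : Lat r) + ∑ l, w l = 0 := by
    refine Prod.ext ?_ (funext fun j => ?_)
    · rw [Prod.fst_add, Prod.fst_sum, Fin.sum_univ_succ]
      simp [w]
    · rw [Prod.snd_add, Prod.snd_sum]
      simp only [Pi.add_apply, Finset.sum_apply, w, Finset.sum_const, Finset.card_univ, Fintype.card_fin,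
        nsmul_eq_mul, Prod.snd_zero, Pi.zero_apply]
      have hc : ((gj n q j : ℤ)) * (cj n q j : ℤ) = ((q + 1 : ℕ) : ℤ) := by exact_mod_cast gj_mul_cj n q j
      rw [hb j, Pi.mul_apply, Pi.natCast_apply, ← hc]
      ring
  rw [hz, Y_zero, one_smul]

theorem psi_congr (X X' : Pre r q) (h : red n q X = red n q X') : psi n ζ q X = psi n ζ q X' := by
  have h0 : red n q (X - X') = 0 := by rw [map_sub, h, sub_self]
  rw [← sub_add_cancel X X', psi_add, psi_of_red_eq_zero n ζ q _ h0, one_mul]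

/-- The representation of the group. -/
def psiG (x : Grp n q) : Pw n ζ (q + 1) := psi n ζ q (liftG n q x)

theorem psi_eq_psiG (X : Pre r q) : psi n ζ q X = psiG n ζ q (red n q X) :=
  psi_congr n ζ q _ _ (red_liftG n q _).symm

theorem psiG_add (x y : Grp n q) : psiG n ζ q (x + y) = psiG n ζ q x * psiG n ζ q y := by
  show _ = psi n ζ q (liftG n q x) * psi n ζ q (liftG n q y)
  rw [← psi_add, psi_eq_psiG n ζ q (liftG n q x + liftG n q y), map_add, red_liftG, red_liftG]

theorem psiG_zero : psiG n ζ q 0 = 1 := by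
  have h := psi_eq_psiG n ζ q (0 : Pre r q)
  rw [psi_zero, map_zero] at h
  exact h.symm

/-- The averaging idempotent. -/
def eH : Pw n ζ (q + 1) := (Fintype.card (Grp n q) : Par C r)⁻¹ • ∑ x, psiG n ζ q x

theorem psiG_mul_eH (x : Grp n q) : psiG n ζ q x * eH n ζ q = eH n ζ q := by
  rw [eH, mul_smul_comm, Finset.mul_sum]
  refine congrArg _ ?_
  simp only [← psiG_add]
  exact Equiv.sum_comp (Equiv.addLeft x) (psiG n ζ q)

theorem card_Grp : Fintype.card (Grp n q) = (∏ j, n j) ^ q * ∏ j, gj n q j := by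
  rw [Fintype.card_prod, Fintype.card_fun, Fintype.card_pi, Fintype.card_pi, Fintype.card_fin]
  simp only [ZMod.card]

theorem centralSimple_pw (m : ℕ) : Algebra.IsCentral (Par C r) (Pw n ζ m) ∧ IsSimpleRing (Pw n ζ m) ∧
    FiniteDimensional (Par C r) (Pw n ζ m) :=
  CSALib.centralSimple_pow (Par C r) (Sym n ζ) m

theorem res_eq_of_comm {m : ℕ} (v : Fin m → Lat r) (h : ∀ w, T n ζ v * T n ζ w = T n ζ w * T n ζ v) (l : Fin m) :
    ∃ w, scale n w = v l := by
  obtain ⟨hc, -, -⟩ := centralSimple_pw (C := C) n ζ m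
  have hcen : T n ζ v ∈ Subalgebra.center (Par C r) (Pw n ζ m) := by
    rw [Subalgebra.mem_center_iff]
    have hL : LinearMap.mulRight (Par C r) (T n ζ v) = LinearMap.mulLeft (Par C r) (T n ζ v) :=
      (bPw n ζ).ext fun e => by simp only [LinearMap.mulRight_apply, LinearMap.mulLeft_apply, bPw_apply, h]
    exact fun b => LinearMap.congr_fun hL b
  obtain ⟨c, hc'⟩ := Algebra.mem_bot.1 (hc.out hcen)
  have h0 : T n ζ v = c • T n ζ (0 : Fin m → Lat r) := by rw [T_zero, ← hc', Algebra.algebraMap_eq_smul_one]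
  have h1 : (fun l => (resE n ((0 : Fin m → Lat r) l)).1) = fun l => (resE n (v l)).1 := by
    by_contra hne
    have h2 := congrArg (fun y => (bPw n ζ).repr y fun l => (resE n (v l)).1) h0
    simp only [map_smul, Finsupp.smul_apply, repr_T, if_neg hne, if_true, smul_zero] at h2
    exact Y_ne_zero _ h2
  have h2 := resE_spec n (v l)
  rw [← congrFun h1 l] at h2
  have h3 := resE_spec n (0 : Lat r)
  refine ⟨(resE n (v l)).2 - (resE n (0 : Lat r)).2, ?_⟩
  rw [map_sub]
  calc scale n (resE n (v l)).2 - scale n (resE n (0 : Lat r)).2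
      = (boxPt n (resE n (0 : Lat r)).1 + scale n (resE n (v l)).2)
          - (boxPt n (resE n (0 : Lat r)).1 + scale n (resE n (0 : Lat r)).2) := by abel
    _ = v l := by
      have h2' : boxPt n (resE n (0 : Lat r)).1 + scale n (resE n (v l)).2 = v l := h2
      rw [h2', h3, sub_zero]

theorem tau_psiG {τ : Pw n ζ (q + 1) →ₗ[Par C r] Par C r} (hτ : ∀ a b, τ (a * b) = τ (b * a)) (x : Grp n q)
    (hx : x ≠ 0) : τ (psiG n ζ q x) = 0 := by
  by_contra hne
  apply hx
  have hT : τ (T n ζ (vH n q (liftG n q x))) ≠ 0 := fun h0 => hne (by rw [psiG, psi, map_smul, h0, smul_zero])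
  have hcomm : ∀ w, T n ζ (vH n q (liftG n q x)) * T n ζ w = T n ζ w * T n ζ (vH n q (liftG n q x)) := by
    intro w
    obtain ⟨z, hz⟩ := (isUnit_T n ζ w).exists_right_inv
    obtain ⟨z', hz'⟩ := (isUnit_T n ζ w).exists_left_inv
    have hzz : z' = z := left_inv_eq_right_inv hz' hz
    subst hzz
    set v := vH n q (liftG n q x)
    obtain ⟨ξ, hξ⟩ : ∃ ξ : Par C r, T n ζ v * T n ζ w = ξ • (T n ζ w * T n ζ v) := by
      have hu : sc (r := r) ((∏ l, chi ζ (w l) (v l) : Cˣ) : C) ≠ 0 :=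
        (map_ne_zero_iff _ (sc_injective (C := C) (r := r))).2 (Units.ne_zero _)
      refine ⟨sc (r := r) ((∏ l, chi ζ (v l) (w l) : Cˣ) : C) *
        (sc (r := r) ((∏ l, chi ζ (w l) (v l) : Cˣ) : C))⁻¹, ?_⟩
      rw [T_mul, T_mul, add_comm w v, smul_smul, mul_assoc, inv_mul_cancel₀ hu, mul_one]
    have h1 : τ (T n ζ v) = ξ • τ (T n ζ v) := by
      calc τ (T n ζ v) = τ (T n ζ v * T n ζ w * z') := by rw [mul_assoc, hz, mul_one]
        _ = ξ • τ (T n ζ w * T n ζ v * z') := by rw [hξ, smul_mul_assoc, map_smul]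
        _ = ξ • τ (z' * (T n ζ w * T n ζ v)) := by rw [hτ]
        _ = ξ • τ (T n ζ v) := by rw [← mul_assoc, hz', one_mul]
    rw [smul_eq_mul] at h1
    rw [hξ, (mul_eq_right₀ hT).1 h1.symm, one_smul]
  rw [← red_liftG n q x]
  refine Prod.ext (funext fun l => funext fun j => ?_) (funext fun j => ?_)
  · obtain ⟨w, hw⟩ := res_eq_of_comm n ζ _ hcomm l.succ
    refine (ZMod.intCast_zmod_eq_zero_iff_dvd _ _).2 ⟨w.1 j, ?_⟩
    have := congrFun (congrArg Prod.fst hw) j
    simpa [vH, scale] using this.symm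
  · obtain ⟨w, hw⟩ := res_eq_of_comm n ζ _ hcomm 0
    refine (ZMod.intCast_zmod_eq_zero_iff_dvd _ _).2 ⟨w.2 j, ?_⟩
    have h2 : (n' n q j : ℤ) * (liftG n q x).2 j = (n j : ℤ) * w.2 j :=
      (congrFun (congrArg Prod.snd hw) j).symm
    rw [← gj_mul_n' n q j, Nat.cast_mul] at h2
    have hn : (n' n q j : ℤ) ≠ 0 := by exact_mod_cast NeZero.ne (n' n q j)
    exact mul_left_cancel₀ hn (h2.trans (by ring))

theorem tau_eH {τ : Pw n ζ (q + 1) →ₗ[Par C r] Par C r} (hτ : ∀ a b, τ (a * b) = τ (b * a)) :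
    τ (eH n ζ q) = (Fintype.card (Grp n q) : Par C r)⁻¹ * τ 1 := by
  rw [eH, map_smul, map_sum, Finset.sum_eq_single 0 (fun x _ hx => tau_psiG n ζ q hτ x hx) (by simp),
    psiG_zero, smul_eq_mul]

theorem eH_mul_eH [CharZero C] : eH n ζ q * eH n ζ q = eH n ζ q := by
  have hN : (Fintype.card (Grp n q) : Par C r) ≠ 0 := by
    rw [← map_natCast (sc (C := C) (r := r))]
    exact (map_ne_zero_iff _ (sc_injective (C := C) (r := r))).2 (Nat.cast_ne_zero.2 Fintype.card_ne_zero)
  conv_lhs => arg 1; rw [eH]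
  rw [smul_mul_assoc, Finset.sum_mul, Finset.sum_congr rfl (fun x _ => psiG_mul_eH n ζ q x), Finset.sum_const,
    Finset.card_univ, ← Nat.cast_smul_eq_nsmul (Par C r), smul_smul, inv_mul_cancel₀ hN, one_smul]

end Groth.Agent.ASBunLib.QTorus
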