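import Groth.Agent.ASBunLib.QTorus.Division
import Groth.Agent.CSALib.Index

/-!
# Monomials in tensor powers of the generic tensor product of symbol algebras
-/

noncomputable section

set_option linter.style.haveILetI false
set_option linter.unusedSectionVars false
set_option maxHeartbeats 1000000
set_option backward.isDefEq.respectTransparency false
set_option backward.isDefEq.respectTransparency.types false

universe u

open TensorProduct Module

namespace Groth.Agent.ASBunLib.QTorus

variable {C : Type u} [Field C] {r : ℕ} (n : Fin r → ℕ) [∀ j, NeZero (n j)] (ζ : Fin r → Cˣ) [Roots n ζ]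

/-- Constants. -/
def sc : C →+* Par C r := (algebraMap (Z C r) (Par C r)).comp (algebraMap C (Z C r))

theorem sc_injective : Function.Injective (sc (C := C) (r := r)) := (sc (C := C) (r := r)).injective

/-- Parameters. -/
def Y (w : Lat r) : Par C r := algebraMap (Z C r) (Par C r) (AddMonoidAlgebra.single w 1)

theorem Y_add (v w : Lat r) : Y (C := C) (v + w) = Y v * Y w := by
  rw [Y, Y, Y, ← map_mul, AddMonoidAlgebra.single_mul_single, mul_one]

theorem Y_zero : Y (C := C) (0 : Lat r) = 1 := by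
  rw [Y, ← AddMonoidAlgebra.one_def, map_one]

theorem Y_ne_zero (w : Lat r) : Y (C := C) w ≠ 0 := fun h => by
  have h1 := Y_add (C := C) w (-w)
  rw [add_neg_cancel, Y_zero, h, zero_mul] at h1
  exact one_ne_zero h1

theorem Y_sum {β : Type*} (s : Finset β) (w : β → Lat r) : Y (C := C) (∑ l ∈ s, w l) = ∏ l ∈ s, Y (w l) := by
  classical
  induction s using Finset.induction with
  | empty => simp [Y_zero]
  | insert a s ha ih => rw [Finset.sum_insert ha, Finset.prod_insert ha, Y_add, ih]

/-- The monomials of the generic algebra. -/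
def mu (v : Lat r) : Sym n ζ := ι n ζ (mn n ζ v)

theorem mu_mul (v w : Lat r) : mu n ζ v * mu n ζ w = sc (r := r) ((chi ζ v w : Cˣ) : C) • mu n ζ (v + w) := by
  rw [mu, mu, ← map_mul, mn_mul, map_smul, mu, ← algebraMap_smul (Par C r) (AddMonoidAlgebra.single (0 : Lat r) _)]
  rfl

theorem mu_zero : mu n ζ (0 : Lat r) = 1 := by rw [mu, mn_zero, map_one]

theorem mu_scale (w : Lat r) : mu n ζ (scale n w) = algebraMap (Par C r) (Sym n ζ) (Y w) := by
  rw [mu, mn_scale, AlgHom.commutes, Y, ← IsScalarTower.algebraMap_apply]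

theorem mu_add_scale (v w : Lat r) : mu n ζ (v + scale n w) = Y (C := C) w • mu n ζ v := by
  have h := mu_mul n ζ v (scale n w)
  rw [chi_scale_right n ζ (Roots.pow n ζ), Units.val_one, map_one, one_smul, mu_scale, ← Algebra.commutes,
    ← Algebra.smul_def] at h
  exact h.symm

theorem bSym_eq_mu (e : Box n) : bSym n ζ e = mu n ζ (boxPt n e) := bSym_apply n ζ e

/-- The tensor power. -/
abbrev Pw (m : ℕ) : Type u := ⨂[Par C r] _ : Fin m, Sym n ζ

variable {m : ℕ}

/-- The monomials of the tensor power. -/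
def T (v : Fin m → Lat r) : Pw n ζ m := PiTensorProduct.tprod (Par C r) fun l => mu n ζ (v l)

theorem T_mul (v w : Fin m → Lat r) :
    T n ζ v * T n ζ w = sc (r := r) ((∏ l, chi ζ (v l) (w l) : Cˣ) : C) • T n ζ (v + w) := by
  rw [T, T, PiTensorProduct.tprod_mul_tprod]
  show PiTensorProduct.tprod (Par C r) (fun l => mu n ζ (v l) * mu n ζ (w l)) = _
  simp only [mu_mul]
  rw [MultilinearMap.map_smul_univ, Units.coe_prod, map_prod]
  rfl

theorem T_zero : T n ζ (0 : Fin m → Lat r) = 1 := by
  simp only [T, Pi.zero_apply, mu_zero]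
  rfl

theorem T_add_scale (v w : Fin m → Lat r) :
    T n ζ (v + fun l => scale n (w l)) = Y (C := C) (∑ l, w l) • T n ζ v := by
  simp only [T, Pi.add_apply, mu_add_scale]
  rw [MultilinearMap.map_smul_univ, Y_sum]

theorem T_scale (w : Fin m → Lat r) :
    T n ζ (fun l => scale n (w l)) = Y (C := C) (∑ l, w l) • (1 : Pw n ζ m) := by
  have h := T_add_scale n ζ (0 : Fin m → Lat r) w
  rwa [zero_add, T_zero] at h

theorem isUnit_T (v : Fin m → Lat r) : IsUnit (T n ζ v) := by
  have key : ∀ v : Fin m → Lat r, ∃ c : Par C r, c ≠ 0 ∧ T n ζ v * T n ζ (-v) = c • (1 : Pw n ζ m) := fun v => by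
    refine ⟨_, (map_ne_zero_iff _ (sc_injective (C := C) (r := r))).2
      (Units.ne_zero (∏ l, chi ζ (v l) ((-v) l))), ?_⟩
    rw [T_mul, add_neg_cancel, T_zero]
  obtain ⟨c, hc, h⟩ := key v
  obtain ⟨c', hc', h'⟩ := key (-v)
  rw [neg_neg] at h'
  refine isUnit_iff_exists_and_exists.2 ⟨⟨c⁻¹ • T n ζ (-v), ?_⟩, ⟨c'⁻¹ • T n ζ (-v), ?_⟩⟩
  · rw [mul_smul_comm, h, smul_smul, inv_mul_cancel₀ hc, one_smul]
  · rw [smul_mul_assoc, h', smul_smul, inv_mul_cancel₀ hc', one_smul]

/-- The residue of a lattice point. -/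
def resE : Lat r ≃ Box n × Lat r := (Equiv.ofBijective _ (boxPt_bijective n)).symm

theorem resE_spec (v : Lat r) : boxPt n (resE n v).1 + scale n (resE n v).2 = v :=
  (Equiv.ofBijective _ (boxPt_bijective n)).apply_symm_apply v

/-- The basis of the tensor power. -/
def bPw : Basis (Fin m → Box n) (Par C r) (Pw n ζ m) := Basis.piTensorProduct fun _ => bSym n ζ

theorem bPw_apply (e : Fin m → Box n) : bPw n ζ e = T n ζ (fun l => boxPt n (e l)) := by
  simp [bPw, T, bSym_eq_mu]

theorem T_eq_smul (v : Fin m → Lat r) :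
    T n ζ v = Y (C := C) (∑ l, (resE n (v l)).2) • bPw n ζ (fun l => (resE n (v l)).1) := by
  rw [bPw_apply, ← T_add_scale]
  congr 1
  funext l
  exact (resE_spec n (v l)).symm

theorem repr_T (v : Fin m → Lat r) (e : Fin m → Box n) :
    (bPw n ζ).repr (T n ζ v) e =
      if (fun l => (resE n (v l)).1) = e then Y (C := C) (∑ l, (resE n (v l)).2) else 0 := by
  classical
  rw [T_eq_smul, map_smul, Basis.repr_self, Finsupp.smul_single, smul_eq_mul, mul_one, Finsupp.single_apply]

instance : Module.Finite (Par C r) (Pw n ζ m) := Module.Finite.of_basis (bPw n ζ)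

theorem finrank_pw : Module.finrank (Par C r) (Pw n ζ m) = ((∏ j, n j) * ∏ j, n j) ^ m := by
  rw [Module.finrank_eq_card_basis (bPw n ζ), Fintype.card_fun, Fintype.card_prod, Fintype.card_pi, Fintype.card_fin]
  simp

end Groth.Agent.ASBunLib.QTorus
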