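import Groth.Agent.ASBunLib.QTorus.Lagrangian

/-!
# Which tensor powers of the generic product of symbol algebras are split
-/

noncomputable section

set_option linter.style.haveILetI false
set_option linter.unusedSectionVars false
set_option maxHeartbeats 1000000
set_option backward.isDefEq.respectTransparency false
set_option backward.isDefEq.respectTransparency.types false

universe u

open TensorProduct Module

namespace Groth.Agent.ASBunLib.QTorus

variable {C : Type u} [Field C] {r : ℕ} (n : Fin r → ℕ) [∀ j, NeZero (n j)] (ζ : Fin r → Cˣ) [Roots n ζ]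

instance instCharZeroPar [CharZero C] : CharZero (Par C r) :=
  charZero_of_injective_ringHom (sc_injective (C := C) (r := r))

theorem card_Grp_mul (q : ℕ) : Fintype.card (Grp n q) * ∏ j, n' n q j = (∏ j, n j) ^ (q + 1) := by
  rw [card_Grp, mul_assoc, ← Finset.prod_mul_distrib, pow_succ]
  simp only [gj_mul_n']

theorem split_of_dvd [CharZero C] (q : ℕ) (hq : ∀ j, n j ∣ q + 1) :
    CSALib.Similar (Par C r) (Pw n ζ (q + 1)) (Par C r) := by
  obtain ⟨-, hs, -⟩ := centralSimple_pw (C := C) n ζ (q + 1)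
  let R := LinearMap.mulRight (Par C r) (eH n ζ q)
  let W : Submodule (Par C r) (Pw n ζ (q + 1)) := LinearMap.range R
  have hproj : LinearMap.IsProj W R :=
    ⟨fun x => LinearMap.mem_range_self R x, fun x hx => by
      obtain ⟨y, rfl⟩ := hx
      show y * eH n ζ q * eH n ζ q = y * eH n ζ q
      rw [mul_assoc, eH_mul_eH]⟩
  let τ : Pw n ζ (q + 1) →ₗ[Par C r] Par C r :=
    (LinearMap.trace (Par C r) (Pw n ζ (q + 1))).comp (LinearMap.mul (Par C r) (Pw n ζ (q + 1))).flip
  have hτ : ∀ a b, τ (a * b) = τ (b * a) := fun a b => by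
    show LinearMap.trace (Par C r) _ (LinearMap.mulRight (Par C r) (a * b))
      = LinearMap.trace (Par C r) _ (LinearMap.mulRight (Par C r) (b * a))
    rw [LinearMap.mulRight_mul, LinearMap.mulRight_mul, ← Module.End.mul_eq_comp, ← Module.End.mul_eq_comp,
      LinearMap.trace_mul_comm]
  have hn : ∀ j, n' n q j = 1 := fun j => by
    have hg : gj n q j = n j := Nat.gcd_eq_left (hq j)
    rw [n', hg, Nat.div_self (Nat.pos_of_ne_zero (NeZero.ne _))]
  have hN : Fintype.card (Grp n q) = (∏ j, n j) ^ (q + 1) := by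
    have h0 := card_Grp_mul n q
    simpa [hn] using h0
  have hdim : finrank (Par C r) W = (∏ j, n j) ^ (q + 1) := by
    have h1 : (finrank (Par C r) W : Par C r) = τ (eH n ζ q) := hproj.trace.symm
    have h2 : τ 1 = (finrank (Par C r) (Pw n ζ (q + 1)) : Par C r) := by
      show LinearMap.trace (Par C r) _ (LinearMap.mulRight (Par C r) (1 : Pw n ζ (q + 1))) = _
      rw [LinearMap.mulRight_one, LinearMap.trace_id]
    rw [tau_eH n ζ q hτ, h2, finrank_pw, hN, mul_pow, Nat.cast_mul, ← mul_assoc,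
      inv_mul_cancel₀ (Nat.cast_ne_zero.2 (pow_ne_zero _ (Finset.prod_ne_zero_iff.2 fun j _ => NeZero.ne (n j)))),
      one_mul] at h1
    exact Nat.cast_injective h1
  have hpos : 0 < finrank (Par C r) W := hdim ▸ pow_pos (Finset.prod_pos fun j _ => Nat.pos_of_ne_zero (NeZero.ne _)) _
  have : Nontrivial W := Module.nontrivial_of_finrank_pos hpos
  let actL : Pw n ζ (q + 1) →ₗ[Par C r] Module.End (Par C r) W :=
    { toFun := fun x => (LinearMap.mulLeft (Par C r) x).restrict (p := W) (q := W)
        (fun w hw => by obtain ⟨y, rfl⟩ := hw; exact ⟨x * y, mul_assoc x y _⟩)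
      map_add' := fun x y => LinearMap.ext fun w => Subtype.ext (add_mul x y (w : Pw n ζ (q + 1)))
      map_smul' := fun c x => LinearMap.ext fun w => Subtype.ext (smul_mul_assoc c x (w : Pw n ζ (q + 1))) }
  let act : Pw n ζ (q + 1) →ₐ[Par C r] Module.End (Par C r) W := AlgHom.ofLinearMap actL
    (LinearMap.ext fun w => Subtype.ext (one_mul (w : Pw n ζ (q + 1))))
    (fun x y => LinearMap.ext fun w => Subtype.ext (mul_assoc x y (w : Pw n ζ (q + 1))))
  have hinj : Function.Injective act := RingHom.injective act.toRingHom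
  have hbij : Function.Bijective act := by
    have hfr : finrank (Par C r) (Pw n ζ (q + 1)) = finrank (Par C r) (Module.End (Par C r) W) := by
      rw [finrank_pw, Module.finrank_linearMap, hdim, mul_pow]
    have hi : Function.Injective actL := hinj
    have hiff := LinearMap.injective_iff_surjective_of_finrank_eq_finrank (K := Par C r)
      (V := Pw n ζ (q + 1)) (V₂ := Module.End (Par C r) W) hfr (f := actL)
    exact ⟨hinj, hiff.1 hi⟩
  exact CSALib.similar_of_algEquiv_matrix (B := Par C r) hpos.ne'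
    ((AlgEquiv.ofBijective act hbij).trans (algEquivMatrix (Module.finBasis (Par C r) W)))

section NotSplit

variable (q : ℕ) (d b : Fin r → ℤ) (hab : ∀ j, d j * (cj n q j : ℤ) + b j * (n' n q j : ℤ) = 1)

/-- The commutation constants of the residual algebra. -/
def zeta' (j : Fin r) : Cˣ := ζ j ^ ((gj n q j : ℤ) * d j)

include hab in
theorem roots_zeta' : Roots (n' n q) (zeta' n ζ q d) := by
  refine ⟨fun j => ?_⟩
  have h := (Roots.prim (n := n) (ζ := ζ) j).pow (Nat.pos_of_ne_zero (NeZero.ne (n j))) (gj_mul_n' n q j).symm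
  rw [zeta', zpow_mul, zpow_natCast]
  exact h.zpow_of_gcd_eq_one (d j) (Int.isCoprime_iff_gcd_eq_one.1 ⟨(cj n q j : ℤ), b j, by linarith [hab j]⟩)

/-- The lattice points of the residual algebra. -/
def vT (x : Lat r) : Fin (q + 1) → Lat r :=
  fun l => (if l = 0 then fun j => (gj n q j : ℤ) * x.1 j else 0, fun j => d j * x.2 j)

/-- The residual monomials. -/
def theta (x : Lat r) : Pw n ζ (q + 1) := Y (C := C) (0, fun j => b j * x.2 j) • T n ζ (vT n q d x)

theorem theta_mul (x y : Lat r) : theta n ζ q d b x * theta n ζ q d b y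
    = sc (r := r) ((chi (zeta' n ζ q d) x y : Cˣ) : C) • theta n ζ q d b (x + y) := by
  have hv : vT n q d x + vT n q d y = vT n q d (x + y) := by
    funext l
    by_cases hl : l = 0
    · subst hl; ext j <;> simp [vT, mul_add]
    · ext j <;> simp [vT, hl, mul_add]
  have hc : ∏ l, chi ζ (vT n q d x l) (vT n q d y l) = chi (zeta' n ζ q d) x y := by
    rw [prod_chi, chi]
    refine Finset.prod_congr rfl fun j _ => ?_
    rw [Finset.sum_eq_single (0 : Fin (q + 1)) (fun l _ hl => by simp [vT, hl]) (by simp), zeta', ← zpow_mul]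
    congr 1
    simp [vT]
    ring
  rw [theta, theta, theta, smul_mul_smul_comm, ← Y_add, T_mul, hc, hv, smul_smul, smul_smul, mul_comm (Y _) _]
  congr 3
  ext j <;> simp [mul_add]

theorem theta_zero : theta n ζ q d b 0 = 1 := by
  have h : vT n q d (0 : Lat r) = 0 := by
    funext l
    by_cases hl : l = 0
    · subst hl; ext j <;> simp [vT]
    · ext j <;> simp [vT, hl]
  have h' : ((0, fun j => b j * (0 : Lat r).2 j) : Lat r) = 0 := by ext j <;> simp
  rw [theta, h, T_zero, h', Y_zero, one_smul]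

theorem theta_comm_psi (x : Lat r) (X : Pre r q) :
    theta n ζ q d b x * psi n ζ q X = psi n ζ q X * theta n ζ q d b x := by
  rw [theta, psi, smul_mul_smul_comm, smul_mul_smul_comm, T_mul, T_mul,
    prod_chi_eq_one n ζ _ _ (fun j => by
      show (n j : ℤ) ∣ ∑ l, (d j * x.2 j) * (vH n q X l).1 j
      rw [sum_mul_vH_fst n q X (fun j => d j * x.2 j) j]
      exact dvd_zero _),
    prod_chi_eq_one n ζ (vH n q X) (vT n q d x) (fun j => by
      rw [Finset.sum_eq_single (0 : Fin (q + 1)) (fun l _ hl => by simp [vT, hl]) (by simp)]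
      refine ⟨X.2 j * x.1 j, ?_⟩
      rw [← gj_mul_n' n q j]
      simp [vT, vH]
      ring), add_comm (vH n q X), mul_comm]

theorem theta_comm_eH (x : Lat r) : theta n ζ q d b x * eH n ζ q = eH n ζ q * theta n ζ q d b x := by
  rw [eH, mul_smul_comm, smul_mul_assoc, Finset.mul_sum, Finset.sum_mul]
  exact congrArg _ (Finset.sum_congr rfl fun g _ => theta_comm_psi n ζ q d b x _)

include hab in
theorem theta_scale_mul_eH (w : Lat r) :
    theta n ζ q d b (scale (n' n q) w) * eH n ζ q = Y (C := C) w • eH n ζ q := by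
  let X : Pre r q := (0, fun j => d j * w.2 j)
  let δ : Fin (q + 1) → Lat r := fun l => if l = 0 then (w.1, 0) else 0
  have hv : vT n q d (scale (n' n q) w) = vH n q X + fun l => scale n (δ l) := by
    funext l
    refine Fin.cases ?_ (fun i => ?_) l
    · ext j
      · have hg : ((gj n q j : ℤ)) * (n' n q j : ℤ) = (n j : ℤ) := by exact_mod_cast gj_mul_n' n q j
        simp [vT, vH, X, δ, scale, ← hg, mul_assoc]
      · simp [vT, vH, X, δ, scale, mul_left_comm]
    · ext j
      · simp [vT, vH, X, δ, scale, Fin.succ_ne_zero]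
      · simp [vT, vH, X, δ, scale, Fin.succ_ne_zero, mul_left_comm]
  have hδ : ∑ l, δ l = (w.1, 0) := by
    rw [Finset.sum_eq_single (0 : Fin (q + 1)) (fun l _ hl => if_neg hl) (by simp)]
    exact if_pos rfl
  have key : theta n ζ q d b (scale (n' n q) w) = Y (C := C) w • psi n ζ q X := by
    rw [theta, psi, hv, T_add_scale, hδ, smul_smul, smul_smul, ← Y_add, ← Y_add]
    refine congrArg (fun v => Y v • T n ζ (vH n q X)) (Prod.ext ?_ (funext fun j => ?_))
    · simp [X, scale]
    · simp only [X, scale, AddMonoidHom.coe_mk, ZeroHom.coe_mk, Prod.snd_add, Pi.add_apply, Pi.zero_apply, add_zero]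
      linear_combination (w.2 j) * hab j
  rw [key, smul_mul_assoc, psi_eq_psiG, psiG_mul_eH]

/-- The representation of the residual algebra in the corner. -/
def rho [Roots (n' n q) (zeta' n ζ q d)] : Sym (n' n q) (zeta' n ζ q d) →ₗ[Par C r] Pw n ζ (q + 1) :=
  (bSym (n' n q) (zeta' n ζ q d)).constr (Par C r) fun e => theta n ζ q d b (boxPt (n' n q) e) * eH n ζ q

include hab in
theorem rho_mu [Roots (n' n q) (zeta' n ζ q d)] (v : Lat r) :
    rho n ζ q d b (mu (n' n q) (zeta' n ζ q d) v) = theta n ζ q d b v * eH n ζ q := by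
  set e := (resE (n' n q) v).1
  set w := (resE (n' n q) v).2
  have hv : boxPt (n' n q) e + scale (n' n q) w = v := resE_spec (n' n q) v
  have h1 := theta_mul n ζ q d b (boxPt (n' n q) e) (scale (n' n q) w)
  rw [chi_scale_right (n' n q) _ (Roots.pow (n' n q) _), Units.val_one, map_one, one_smul, hv] at h1
  rw [← h1, mul_assoc, theta_scale_mul_eH n ζ q d b hab, mul_smul_comm, ← hv, mu_add_scale, map_smul, ← bSym_eq_mu,
    rho, Basis.constr_basis]

include hab in
theorem rho_mul [CharZero C] [Roots (n' n q) (zeta' n ζ q d)] (x y : Sym (n' n q) (zeta' n ζ q d)) :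
    rho n ζ q d b (x * y) = rho n ζ q d b x * rho n ζ q d b y := by
  have h : (LinearMap.mul (Par C r) (Sym (n' n q) (zeta' n ζ q d))).compr₂ (rho n ζ q d b)
      = (LinearMap.mul (Par C r) (Pw n ζ (q + 1))).compl₁₂ (rho n ζ q d b) (rho n ζ q d b) := by
    refine (bSym _ _).ext fun e => (bSym _ _).ext fun f => ?_
    simp only [LinearMap.compr₂_apply, LinearMap.compl₁₂_apply, LinearMap.mul_apply', bSym_eq_mu, mu_mul, map_smul,
      rho_mu n ζ q d b hab]
    rw [mul_assoc (theta n ζ q d b (boxPt (n' n q) e)), ← mul_assoc (eH n ζ q), ← theta_comm_eH, mul_assoc _ _ (eH n ζ q),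
      eH_mul_eH, ← mul_assoc, theta_mul, smul_mul_assoc]
  exact LinearMap.congr_fun (LinearMap.congr_fun h x) y

include hab in
theorem rho_one [Roots (n' n q) (zeta' n ζ q d)] : rho n ζ q d b 1 = eH n ζ q := by
  rw [← mu_zero (n' n q) (zeta' n ζ q d), rho_mu n ζ q d b hab, theta_zero, one_mul]

end NotSplit

theorem dvd_of_split [CharZero C] (q : ℕ) (h : CSALib.Similar (Par C r) (Pw n ζ (q + 1)) (Par C r)) (j : Fin r) :
    n j ∣ q + 1 := by
  obtain ⟨_, hs, _⟩ := centralSimple_pw (C := C) n ζ (q + 1)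
  obtain ⟨N, hN, ⟨φ⟩⟩ := CSALib.similar_field_iff.1 h
  let ψ : Pw n ζ (q + 1) ≃ₐ[Par C r] Module.End (Par C r) (Fin N → Par C r) := φ.trans Matrix.toLinAlgEquiv'
  let I := (∏ j, n j) ^ (q + 1)
  have hNI : N = I := by
    have h1 := φ.toLinearEquiv.finrank_eq
    rw [finrank_pw, Module.finrank_matrix, Module.finrank_self, Fintype.card_fin, mul_one, mul_pow, ← sq, ← sq] at h1
    exact (Nat.pow_left_injective two_ne_zero h1).symm
  let τ : Pw n ζ (q + 1) →ₗ[Par C r] Par C r := (LinearMap.trace (Par C r) _).comp ψ.toLinearMap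
  have hτ : ∀ a b, τ (a * b) = τ (b * a) := fun a b => by
    show LinearMap.trace (Par C r) _ (ψ (a * b)) = LinearMap.trace (Par C r) _ (ψ (b * a))
    rw [map_mul ψ, map_mul ψ, LinearMap.trace_mul_comm]
  let P : Module.End (Par C r) (Fin N → Par C r) := ψ (eH n ζ q)
  have hPP : P * P = P := by show ψ _ * ψ _ = ψ _; rw [← map_mul, eH_mul_eH]
  let W := LinearMap.range P
  have hproj : LinearMap.IsProj W P := ⟨fun x => LinearMap.mem_range_self P x, fun x hx => by
    obtain ⟨y, rfl⟩ := hx
    exact LinearMap.congr_fun hPP y⟩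
  have hW : finrank (Par C r) W = ∏ j, n' n q j := by
    have h1 : (finrank (Par C r) W : Par C r) = τ (eH n ζ q) := hproj.trace.symm
    have h2 : τ 1 = (N : Par C r) := by
      show LinearMap.trace (Par C r) _ (ψ 1) = _
      rw [map_one, LinearMap.trace_one, Module.finrank_fin_fun]
    rw [tau_eH n ζ q hτ, h2, congrArg (Nat.cast : ℕ → Par C r) hNI, show I = Fintype.card (Grp n q) * ∏ j, n' n q j from (card_Grp_mul n q).symm,
      Nat.cast_mul, ← mul_assoc, inv_mul_cancel₀ (Nat.cast_ne_zero.2 Fintype.card_ne_zero), one_mul] at h1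
    exact Nat.cast_injective h1
  have hab' : ∀ j, ∃ d b : ℤ, d * (cj n q j : ℤ) + b * (n' n q j : ℤ) = 1 := fun j =>
    Nat.isCoprime_iff_coprime.2 (coprime_cj n q j)
  choose d b hab using hab'
  haveI := roots_zeta' n ζ q d b hab
  have hpos : 0 < finrank (Par C r) W :=
    hW ▸ Finset.prod_pos fun j _ => Nat.pos_of_ne_zero (NeZero.ne (n' n q j))
  haveI : Nontrivial W := Module.nontrivial_of_finrank_pos hpos
  obtain ⟨⟨w, hw⟩, hw0⟩ := exists_ne (0 : W)
  have hw1 : w ≠ 0 := fun hz => hw0 (Subtype.ext hz)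
  have hPw : P w = w := hproj.map_id w hw
  let L : Sym (n' n q) (zeta' n ζ q d) →ₗ[Par C r] W :=
    ((LinearMap.applyₗ w).comp (ψ.toLinearMap.comp (rho n ζ q d b))).codRestrict W fun x => by
      refine ⟨ψ (rho n ζ q d b x) w, ?_⟩
      show (ψ (eH n ζ q) * ψ (rho n ζ q d b x)) w = ψ (rho n ζ q d b x) w
      rw [← map_mul, ← rho_one n ζ q d b hab, ← rho_mul n ζ q d b hab, one_mul]
  have hL : Function.Injective L := by
    refine (injective_iff_map_eq_zero L).2 fun x hx => by_contra fun hx0 => hw1 ?_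
    letI := divSym (n' n q) (zeta' n ζ q d)
    have h0 : ψ (rho n ζ q d b x) w = 0 := congrArg Subtype.val hx
    rw [← hPw]
    show ψ (eH n ζ q) w = 0
    rw [← rho_one n ζ q d b hab, ← inv_mul_cancel₀ hx0, rho_mul n ζ q d b hab, map_mul, Module.End.mul_apply, h0,
      map_zero]
  have hle := LinearMap.finrank_le_finrank_of_injective hL
  rw [finrank_sym, hW] at hle
  have hp : ∏ j, n' n q j = 1 := by
    have h0 : 0 < ∏ j, n' n q j := hW ▸ hpos
    nlinarith
  have hj : n' n q j = 1 := (Finset.prod_eq_one_iff.1 hp) j (Finset.mem_univ _)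
  have hg := gj_mul_n' n q j
  rw [hj, mul_one] at hg
  exact hg ▸ Nat.gcd_dvd_right (n j) (q + 1)

end Groth.Agent.ASBunLib.QTorus
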